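/-
Auxiliary tables for the Chevalley datum of type E6.
-/
import Cfsg.Agent.Chevalley.Check
import Cfsg.Prelude.Def_ChevE6

set_option autoImplicit false
set_option maxRecDepth 100000

namespace Cfsg.Agent.Chevalley.E6

open Cfsg.Lie

def tab : Tab where
  cfP := 0x8182838282818182838281818182828281818181828281818081828281818182828181818181828181818081828181818181818181818081818181818080818181818181818180818081818180818080818180818080808180818080808080818182828181808181828181808081828181808181818181808081818181808080818181808181818081808081818081808080818081808080808081808181818180808081818180808080818180808080808180808181818080808081818080808080818080808181808080808081808080808180808080807f8080808080807f808080807f7f8080808080807f808080807f7f8080807f7f7f8080808080807f808080807f7f8080807f7f7f80807f7f7f7f8080808080807f8080807f807f80807f7f807f807f7f7f807f8080807f7f7f80807f7f7f7f807f7f7f7f7f80807f7e7f7f807f7f7e7f7f807f7e7e7f7f8080808080807f8080807f807f80807f7f807f807f7f7f807f7f7f7f7f807f80807f7f7f7f807f7f7f7f7f7f7f7f7f7f7f807f7e7f7f7f7f7f7e7f7f7f7f7e7e7f7f7f807f7e7e7f7f7f7f7e7e7f7f7f7e7e7e7f7f7f7e7d7e7f7f7f7e7d7e7e7f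
  codeP := 0x8000000042083081800000004108308180000000410820818000000041082041800000004108204080000000410420818000000041042041800000004104204080000000410410418000000041041040800000004104100080000000400410418000000040041040800000004004100080000000400400008000000040000000800000000104208180000000010420418000000001042040800000000104104180000000010410408000000001041000800000000100104180000000010010408000000001001000800000000100000080000000000410418000000000041040800000000004100080000000000400008000000000001041800000000000104080000000000010008000000000000041800000000000004080000000000000017fffffffffffffff7fffffffffffffc07fffffffffffffbf7ffffffffffff0007fffffffffffefc07fffffffffffefbf7ffffffffffc00007ffffffffffbf0007ffffffffffbefc07ffffffffffbefbf7fffffffff0000007ffffffffefff0007ffffffffeffefc07ffffffffeffefbf7ffffffffefbf0007ffffffffefbefc07ffffffffefbefbf7ffffffffefbdfc07ffffffffefbdfbf7ffffffffefbdf7f7fffffffc00000007fffffffbffc00007fffffffbffbf0007fffffffbffbefc07fffffffbffbefbf7fffffffbefbf0007fffffffbefbefc07fffffffbefbefbf7fffffffbefbdfc07fffffffbefbdfbf7fffffffbefbdf7f7fffffffbef7dfc07fffffffbef7dfbf7fffffffbef7df7f7fffffffbef7cf7f7fffffffbdf7cf7f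
  wP := [0x47464544433736353433322d2c2b2a0f4241403f3e3d31302f2e3c3b3a39292827262524232221201f1e0e0d0c0b191817160a0908070605381d1c1b1a1514131211100403020100,
    0x46474544434241403c3b3a3f3e3d39383736352d2c2b292827193433322a31302f2625242322211817161d1514132e201f1e1c1b1a1211100f0e0a09080d0c0b0706050403020001,
    0x47464241404544433f3e3d3c3b3a383937363531302f3433322e2928271d2d2c2b2625242322211c1b1a2a201f1e191514131817161211100e0f0d0c0b0a09080403020706050100,
    0x4745464443423f3e41403d3c3b393a3837343336353231302e2f2d2c2a2b262520292824231f1e2722211c1d1b1a181917161512111413100f0d0e0c0b0a07060908050403010200,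
    0x47464445434142403f3d3e3c3a3b3938363735343233312f302e2d2b2c2a2927282422262125231f201e1d1b1c1a191718161415131210110f0e0c0d0b090a080705060402030100,
    0x47464543444240413e3f3d3b3c3a393837353633343230312f2e2c2d2b2a282927252623242122201e1f1d1c1a1b191816171513141112100f0e0d0b0c0a08090607050304020100]
  negP := [0x1fc3c003c3f8000, 0x80e01c4381c2380701, 0x38021c0781e038401c, 0x43046088e7110620c2, 0x244889113c88911224, 0x129052225a444a0948]

end Cfsg.Agent.Chevalley.E6
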