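/-
Checks for a fundamental reflection of type E6.
-/
import Cfsg.Agent.Chevalley.DataE6.Tab

set_option autoImplicit false
set_option maxRecDepth 100000

namespace Cfsg.Agent.Chevalley.E6

open Cfsg.Lie

theorem chkW3 : tab.chkW chevE6 3 = true := by decide +kernel

theorem chkChainW3 : tab.chkChainW chevE6 3 = true := by decide +kernel

theorem chkN3 : tab.chkN chevE6 3 = true := by decide +kernel

end Cfsg.Agent.Chevalley.E6
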